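import Groth.Agent.Lib.Helper5.PushEdge

/-! # The edge map `H^1(Y, f_* G) → H^1(X, G)` is injective -/

set_option autoImplicit false
universe u
open CategoryTheory CategoryTheory.Limits Opposite TopologicalSpace AlgebraicGeometry Abelian

namespace Groth.Agent.Lib.Helper2.EdgeInj

open Groth.Agent.Lib.Helper5.PushEdge Groth.Agent.Lib.Helper22 Groth.Agent.Lib.Helper22.DimShift

variable {X Y : TopCat.{u}} (f : X ⟶ Y)

instance : PreservesLimitsOfSize.{u, u} (CohTop.push f) :=
  (CohPull.invPushAdj f).rightAdjoint_preservesLimits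

/-- the image factorisation of the (left exact) direct image of a short exact sequence -/
theorem exists_push_factor {S : ShortComplex (CohTop.Ab X)} (hS : S.ShortExact) :
    ∃ (Q' : CohTop.Ab Y) (π : (CohTop.push f).obj S.X₂ ⟶ Q') (j : Q' ⟶ (CohTop.push f).obj S.X₃)
      (h : (CohTop.push f).map S.f ≫ π = 0), Mono j ∧ π ≫ j = (CohTop.push f).map S.g ∧
        (ShortComplex.mk ((CohTop.push f).map S.f) π h).ShortExact := by
  have hmono := hS.mono_f
  have hTex : (S.map (CohTop.push f)).Exact :=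
    hS.exact.map_of_mono_of_preservesKernel (CohTop.push f) hS.mono_f inferInstance
  haveI : Mono ((CohTop.push f).map S.f) := inferInstance
  refine ⟨cokernel ((CohTop.push f).map S.f), cokernel.π _,
    cokernel.desc _ ((CohTop.push f).map S.g) (S.map (CohTop.push f)).zero, cokernel.condition _,
    hTex.mono_cokernelDesc, cokernel.π_desc _ _ _,
    ShortComplex.ShortExact.mk (ShortComplex.exact_cokernel _)⟩

set_option maxHeartbeats 1600000 in
theorem injective_edge_one_aux {S : ShortComplex (CohTop.Ab X)} (hS : S.ShortExact)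
    (hI' : ∀ x : Sheaf.H ((CohTop.push f).obj S.X₂) 1, x = 0) :
    Function.Injective (edge f S.X₁ 1) := by
  rw [injective_iff_map_eq_zero]
  intro y hy
  obtain ⟨Q', π, j, hzero, hj, hπj, hS''⟩ := exists_push_factor f hS
  have h0 : y.comp (Ext.mk₀ ((CohTop.push f).map S.f)) (add_zero 1) = 0 := hI' _
  obtain ⟨z', rfl⟩ := Ext.covariant_sequence_exact₁ _ hS'' y h0 rfl
  -- the morphism of short exact sequences
  let τ : (ShortComplex.mk ((CohTop.push f).map S.f) π hzero).map (CohPull.inv f) ⟶ S :=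
    { τ₁ := cu f S.X₁
      τ₂ := cu f S.X₂
      τ₃ := (CohPull.inv f).map j ≫ cu f S.X₃
      comm₁₂ := (cu_naturality f S.f).symm
      comm₂₃ := by
        refine Eq.symm ?_
        change (CohPull.inv f).map π ≫ (CohPull.inv f).map j ≫ cu f S.X₃ = cu f S.X₂ ≫ S.g
        rw [← Category.assoc, ← Functor.map_comp, hπj]
        exact cu_naturality f S.g }
  -- compatibility of the edge map with the connecting maps
  have hkey : edge f S.X₁ 1 (z'.comp hS''.extClass rfl) =
      (Sheaf.H.map ((CohPull.inv f).map j ≫ cu f S.X₃) 0 (CohPull.pullAb f Q' 0 z')).comp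
        hS.extClass rfl := by
    rw [edge_apply]
    have h1 := pullAb_extClass f hS'' 0 z'
    have h2 := ShortComplex.ShortExact.extClass_naturality (hS''.map_of_exact (CohPull.inv f)) hS τ
    rw [Sheaf.H.map_apply, Sheaf.H.map_apply]
    refine (congrArg (fun z => z.comp (Ext.mk₀ (cu f S.X₁)) (add_zero (0 + 1))) h1).trans ?_
    refine (Ext.comp_assoc_of_third_deg_zero _ _ _ _).trans ?_
    refine (congrArg (fun z => (CohPull.pullAb f Q' 0 z').comp z rfl) h2).trans ?_
    exact (Ext.comp_assoc_of_second_deg_zero _ _ _ _).symm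
  rw [hkey] at hy
  obtain ⟨v, hv⟩ := Ext.covariant_sequence_exact₃ _ hS _ rfl hy
  obtain ⟨v', rfl⟩ := (bijective_edge_zero f S.X₂).2 v
  have hw : Sheaf.H.map ((CohPull.inv f).map j ≫ cu f S.X₃) 0 (CohPull.pullAb f Q' 0 z') =
      edge f S.X₃ 0 (Sheaf.H.map j 0 z') :=
    (Sheaf.H.map_comp_apply _ _ _).trans
      ((congrArg (fun t => Sheaf.H.map (cu f S.X₃) 0 t) (pullAb_map f j 0 z').symm).trans
        (edge_apply f S.X₃ 0 _).symm)
  have hv2 : (edge f S.X₂ 0 v').comp (Ext.mk₀ S.g) (add_zero 0) =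
      edge f S.X₃ 0 (Sheaf.H.map ((CohTop.push f).map S.g) 0 v') :=
    ((edge_map f S.g 0 v').trans (Sheaf.H.map_apply _ _)).symm
  have h3 : Sheaf.H.map j 0 z' = Sheaf.H.map ((CohTop.push f).map S.g) 0 v' :=
    (bijective_edge_zero f S.X₃).1 (hw.symm.trans (hv.symm.trans hv2))
  have h4 : z' = Sheaf.H.map π 0 v' := by
    haveI := hj
    apply Ext.postcomp_mk₀_injective_of_mono _ j
    change Sheaf.H.map j 0 z' = Sheaf.H.map j 0 (Sheaf.H.map π 0 v')
    rw [h3, ← Sheaf.H.map_comp_apply, hπj]
  rw [h4, Sheaf.H.map_apply]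
  exact comp_g_extClass' hS'' v'

theorem injective_edge_one (G : CohTop.Ab X) : Function.Injective (edge f G 1) := by
  have hS := injSC_shortExact G
  have hinj : Injective ((CohTop.push f).obj (injSC G).X₂) :=
    Injective.injective_of_adjoint (CohPull.invPushAdj f) (injSC G).X₂
  have hz : ∀ x : Sheaf.H ((CohTop.push f).obj (injSC G).X₂) 1, x = 0 :=
    fun x => @Ext.eq_zero_of_injective _ _ _ _ _ _ 0 hinj x
  exact @injective_edge_one_aux X Y f (injSC G) hS hz

end Groth.Agent.Lib.Helper2.EdgeInj
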